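import Cfsg.Agent.Fusion.NormalExt.Centralizer
import Cfsg.Agent.Fusion.NormalFamily.Induced

/-!
Normal subsystems: every automorphism of a centric subgroup extends to the centralizer in the
whole group, trivially modulo the subgroup.
-/

set_option autoImplicit false
set_option linter.unusedSectionVars false
set_option linter.style.haveILetI false

namespace Cfsg.Lib.Fusion.NExt

open Cfsg Cfsg.FusionSystem Cfsg.Lib.Fusion

universe u

variable {Ω : Type u} [Group Ω] {S T : Subgroup Ω} {F : FusionSystem S} {D : FusionSystem T}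
  {p : ℕ}

/-- An extension to `C_S(Q)` which is trivial modulo `Q`. -/
def GoodExt (F : FusionSystem S) (Q : Subgroup Ω) (f : Ω → Ω) : Prop :=
  ∃ g, IsMap F (Q ⊔ centralizerIn S Q) g ∧ (∀ x ∈ Q, g x = f x) ∧
    ∀ c ∈ centralizerIn S Q, c⁻¹ * g c ∈ Q

theorem GoodExt.congr {Q : Subgroup Ω} {f f' : Ω → Ω} (h : GoodExt F Q f)
    (e : ∀ x ∈ Q, f' x = f x) : GoodExt F Q f' :=
  let ⟨g, hg, eg, hc⟩ := h
  ⟨g, hg, fun x hx => (eg x hx).trans (e x hx).symm, hc⟩

theorem GoodExt.maps {Q : Subgroup Ω} {α : MulAut Q} {g : Ω → Ω}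
    (hg : IsMap F (Q ⊔ centralizerIn S Q) g) (eg : ∀ x ∈ Q, g x = autFun α x)
    (hc : ∀ c ∈ centralizerIn S Q, c⁻¹ * g c ∈ Q) {y : Ω} (hy : y ∈ Q ⊔ centralizerIn S Q) :
    g y ∈ Q ⊔ centralizerIn S Q := by
  obtain ⟨a, ha, c, hcc, rfl⟩ := NormCent.mem_sup_centralizerIn.mp hy
  rw [hg.map_mul (Subgroup.mem_sup_left ha) (Subgroup.mem_sup_right hcc), eg a ha,
    show g c = c * (c⁻¹ * g c) by group]
  exact Subgroup.mul_mem _ (Subgroup.mem_sup_left (autFun_mem α ha))
    (Subgroup.mul_mem _ (Subgroup.mem_sup_right hcc) (Subgroup.mem_sup_left (hc c hcc)))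

theorem GoodExt.mul {Q : Subgroup Ω} {α β : MulAut Q} (ha : GoodExt F Q (autFun α))
    (hb : GoodExt F Q (autFun β)) : GoodExt F Q (autFun (α * β)) := by
  obtain ⟨g, hg, eg, hgc⟩ := ha
  obtain ⟨g', hg', eg', hgc'⟩ := hb
  refine ⟨g ∘ g', hg'.comp hg fun y hy => GoodExt.maps hg' eg' hgc' hy, fun x hx => ?_,
    fun c hc => ?_⟩
  · show g (g' x) = _
    rw [eg' x hx, eg _ (autFun_mem β hx), autFun_mul _ _ hx]
  · show c⁻¹ * g (g' c) ∈ Q
    rw [show g' c = c * (c⁻¹ * g' c) by group,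
      hg.map_mul (Subgroup.mem_sup_right hc) (Subgroup.mem_sup_left (hgc' c hc)),
      eg _ (hgc' c hc), ← mul_assoc]
    exact Q.mul_mem (hgc c hc) (autFun_mem α (hgc' c hc))

/-- The automorphisms with such an extension. -/
def goodGroup (F : FusionSystem S) {Q : Subgroup Ω} (hQ : Q ≤ S) [Finite (MulAut Q)] :
    Subgroup (MulAut Q) where
  carrier := {α | GoodExt F Q (autFun α)}
  one_mem' := ⟨id, isMap_id (sup_le hQ inf_le_left), fun x hx => (autFun_one hx).symm,
    fun c _ => by rw [id, inv_mul_cancel]; exact Q.one_mem⟩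
  mul_mem' := GoodExt.mul
  inv_mem' := fun {a} ha => by
    refine NormCent.inv_mem_of_pow (good := fun b => GoodExt F Q (autFun b)) fun n => ?_
    induction n with
    | zero =>
      exact ⟨id, isMap_id (sup_le hQ inf_le_left), fun x hx => by rw [pow_zero, autFun_one hx]; rfl,
        fun c _ => by rw [id, inv_mul_cancel]; exact Q.one_mem⟩
    | succ n ih => rw [pow_succ]; exact ih.mul ha

variable [Finite S] [Fact p.Prime]

theorem good_conjAut (hT : F.StronglyClosed T) {Q : Subgroup Ω} (hQT : Q ≤ T)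
    (hcen : centralizerIn T Q ≤ Q) {t : Ω} (ht : t ∈ T)
    (hn : t ∈ Subgroup.normalizer (Q : Set Ω)) : GoodExt F Q (autFun (conjAut Q t hn)) := by
  refine ⟨fun x => t * x * t⁻¹, isMap_conj (sup_le (hQT.trans hT.1) inf_le_left) (hT.1 ht),
    fun x hx => by rw [autFun_apply_mem _ hx, conjAut_apply], fun c hc => hcen ?_⟩
  refine Fusion.mem_centralizerIn.mpr ⟨?_, fun x hx => ?_⟩
  · have h1 := conj_mem_of_mem_normalizer
      (normalizes_of_stronglyClosed hT (S.inv_mem hc.1)) ht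
    rw [inv_inv] at h1
    have := T.mul_mem h1 (T.inv_mem ht)
    convert this using 1
    group
  · have hx' : t⁻¹ * x * t ∈ Q := by
      have := conj_mem_of_mem_normalizer (Subgroup.inv_mem _ hn) hx
      rwa [inv_inv] at this
    have hcc := (Fusion.mem_centralizerIn.mp hc).2
    have h1 := hcc _ hx'
    have h2 := hcc x hx
    calc c⁻¹ * (t * c * t⁻¹) * x * (c⁻¹ * (t * c * t⁻¹))⁻¹
        = c⁻¹ * (t * (c * (t⁻¹ * x * t) * c⁻¹) * t⁻¹) * c := by group
      _ = c⁻¹ * x * c := by rw [h1]; group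
      _ = c⁻¹ * (c * x * c⁻¹) * c := by rw [h2]
      _ = x := by group

/-- An element centralizing `Q` and inducing a member of the subsystem on `N`. -/
theorem exists_mem_centralizer_mul (hS : IsPGroup p S) (hD : D.IsWeaklyNormalIn F p)
    {Q N : Subgroup Ω} (hQc : D.IsCentric Q) (hQN : Q ≤ N) (hN : N ≤ T) {w : Ω}
    (hw : w ∈ centralizerIn S Q) (hwn : w ∈ Subgroup.normalizer (N : Set Ω))
    (hwD : conjAut N w hwn ∈ D.autGroup N) :
    ∃ q ∈ Q, q⁻¹ * w ∈ centralizerIn S N := by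
  obtain ⟨hDs, hF, hinv⟩ := hD
  have hTS := hinv.2.1.1
  haveI := finite_of_le hTS
  have hNS := hN.trans hTS
  have hTp : IsPGroup p T := hS.of_injective _ (Subgroup.inclusion_injective hTS)
  obtain ⟨N', hNN', hn'⟩ := exists_fullyNormalized (F := F) hNS
  obtain ⟨f₀, hf₀, hi₀⟩ := isConj_iff.mp hNN'
  obtain ⟨-, hfa, hrec⟩ := fullyNormalized_props hS hF hn'
  obtain ⟨-, -, f, hf, hfi, -, hfN⟩ := exists_map_normalizer hS hfa hrec hf₀ hi₀
  have hNN : N ≤ normalizerIn S N := le_normalizerIn hNS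
  have hfN' := hf.mono hNN
  have hN'T : N' ≤ T := hfi ▸ IsMap.img_le_iff.mpr fun x hx =>
    stronglyClosed_apply hinv.2.1 hfN' hx (hN hx)
  haveI := finite_of_le hN'T
  have hwN : w ∈ normalizerIn S N := ⟨hw.1, hwn⟩
  have hw' := hfN w hwN
  have e : conjAut N' (f w) hw'.2 = MulAut.congr (hfN'.equiv hfi) (conjAut N w hwn) :=
    NFam.eq_of_autFun fun y hy => by
      rw [← hfi] at hy
      obtain ⟨x, hx, rfl⟩ := hfN'.mem_img.mp hy
      rw [congr_equiv_spec hfN' hfi _ hx, autFun_apply_mem _ (hfi ▸ IsMap.apply_mem_img hx),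
        conjAut_apply, autFun_apply_mem (conjAut N w hwn) hx, conjAut_apply]
      exact (hf.map_conj hwN (hNN hx)).symm
  have hwD' : conjAut N' (f w) hw'.2 ∈ D.autGroup N' :=
    e ▸ NormCent.congr_mem_sub hinv hN hfN' hfi hwD
  -- `Aut_S(N') ∩ Aut_D(N') = Aut_T(N')`
  have hDn := NormCent.fullyNormalized_sub hS hF hinv hN'T hn'
  have hfaD := (fullyNormalized_props hTp hDs hDn).2.1
  set U := autInducedBy T N'
  set W := autInducedBy S N' ⊓ D.autGroup N'
  have hUW : U ≤ W := le_inf (autInducedBy_mono hTS) (autInducedBy_le hN'T)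
  have hWp : IsPGroup p W := (isPGroup_autInducedBy hS N').to_le inf_le_left
  haveI : Finite (MulAut N') := NormCent.finite_mulAut N'
  have hWU : W = U := by
    refine (Subgroup.eq_of_le_of_card_ge hUW ?_).symm
    obtain ⟨χ, -, hχ⟩ := exists_conj_into_autS hfaD hWp inf_le_right
    exact Nat.card_le_card_of_injective (fun v => (⟨χ * v * χ⁻¹, hχ v v.2⟩ : U))
      fun a b hab => Subtype.ext (mul_left_cancel (mul_right_cancel
        (congrArg (fun z : U => (z : MulAut N')) hab)))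
  obtain ⟨t, ht, et⟩ := mem_autInducedBy.mp
    (hWU.le ⟨conjAut_mem_autInducedBy hw'.2 hw'.1, hwD'⟩)
  have hfQ : img Q f ≤ N' := hfi ▸ img_mono hQN f
  have hQ'c : centralizerIn T (img Q f) ≤ img Q f :=
    (CharSub.centricT_img hinv hQc (hfN'.mono hQN)).2 _ (isConj_refl (hfQ.trans hN'T))
  have htQ : t ∈ centralizerIn T (img Q f) := Fusion.mem_centralizerIn.mpr ⟨ht, fun y hy => by
    have h1 := et ⟨y, hfQ hy⟩
    rw [conjAut_apply] at h1
    obtain ⟨x, hx, rfl⟩ := (hfN'.mono hQN).mem_img.mp hy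
    rw [← h1, ← hf.map_conj hwN (hNN (hQN hx)), (Fusion.mem_centralizerIn.mp hw).2 x hx]⟩
  obtain ⟨q, hq, eq⟩ := (hfN'.mono hQN).mem_img.mp (hQ'c htQ)
  have hqN := hNN (hQN hq)
  have hqw : q⁻¹ * w ∈ normalizerIn S N := Subgroup.mul_mem _ (Subgroup.inv_mem _ hqN) hwN
  refine ⟨q, hq, Fusion.mem_centralizerIn.mpr ⟨hqw.1, fun x hx => ?_⟩⟩
  refine hf.injOn (hNN (conj_mem_of_mem_normalizer hqw.2 hx)) (hNN hx) ?_
  have h1 := et ⟨f x, hfi ▸ IsMap.apply_mem_img hx⟩
  rw [conjAut_apply] at h1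
  rw [hf.map_conj hqw (hNN hx), hf.map_mul (Subgroup.inv_mem _ hqN) hwN, hf.map_inv hqN, eq]
  calc t⁻¹ * f w * f x * (t⁻¹ * f w)⁻¹ = t⁻¹ * (f w * f x * (f w)⁻¹) * t := by group
    _ = f x := by rw [h1]; group

/-- Transport of an extension from a fully normalized position. -/
theorem good_of_congr {Q R : Subgroup Ω} (hQ : Q ≤ S) {f : Ω → Ω}
    (hf : IsMap F (normalizerIn S Q) f) (hi : img Q f = R) {α : MulAut Q}
    (h : GoodExt F R (autFun (MulAut.congr ((hf.mono (le_normalizerIn hQ)).equiv hi) α))) :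
    GoodExt F Q (autFun α) := by
  obtain ⟨g, hg, eg, hgc⟩ := h
  set E := Q ⊔ centralizerIn S Q
  have hQN := le_normalizerIn (S := S) hQ
  have hEN : E ≤ normalizerIn S Q := sup_le hQN (centralizerIn_le_normalizerIn Q)
  have hfE := hf.mono hEN
  have hQE : Q ≤ E := le_sup_left
  have hfc : ∀ c ∈ centralizerIn S Q, f c ∈ centralizerIn S R := fun c hc => by
    have := hfE.mem_centralizerIn hQE (Subgroup.mem_sup_right hc) hc
    rwa [hi] at this
  obtain ⟨k, hk, -, hkl, -⟩ := hfE.exists_inv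
  have hRi : R ≤ img E f := hi ▸ img_mono hQE f
  have hmem : ∀ y ∈ E, f y ∈ R ⊔ centralizerIn S R := fun y hy => by
    obtain ⟨a, ha, c, hc, rfl⟩ := NormCent.mem_sup_centralizerIn.mp hy
    rw [hfE.map_mul (hQE ha) (Subgroup.mem_sup_right hc)]
    exact Subgroup.mul_mem _ (Subgroup.mem_sup_left (hi ▸ IsMap.apply_mem_img ha))
      (Subgroup.mem_sup_right (hfc c hc))
  have hgf : ∀ c ∈ centralizerIn S Q, g (f c) ∈ img E f := fun c hc => by
    rw [show g (f c) = f c * ((f c)⁻¹ * g (f c)) by group]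
    exact Subgroup.mul_mem _ (IsMap.apply_mem_img (Subgroup.mem_sup_right hc))
      (hRi (hgc _ (hfc c hc)))
  have hgE : ∀ y ∈ E, g (f y) ∈ img E f := fun y hy => by
    obtain ⟨a, ha, c, hc, rfl⟩ := NormCent.mem_sup_centralizerIn.mp hy
    have hfa : f a ∈ R := hi ▸ IsMap.apply_mem_img ha
    rw [hfE.map_mul (hQE ha) (Subgroup.mem_sup_right hc),
      hg.map_mul (Subgroup.mem_sup_left hfa) (Subgroup.mem_sup_right (hfc c hc)), eg _ hfa]
    exact Subgroup.mul_mem _ (hRi (autFun_mem _ hfa)) (hgf c hc)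
  refine ⟨k ∘ (g ∘ f), (hfE.comp hg hmem).comp hk hgE, fun x hx => ?_, fun c hc => ?_⟩
  · show k (g (f x)) = _
    rw [eg _ (hi ▸ IsMap.apply_mem_img hx),
      congr_equiv_spec (hf.mono hQN) hi α hx, hkl _ (hQE (autFun_mem α hx))]
  · show c⁻¹ * k (g (f c)) ∈ Q
    have hd := hgc _ (hfc c hc)
    rw [← hi] at hd
    obtain ⟨q, hq, eq⟩ := (hf.mono hQN).mem_img.mp hd
    have hcE : c ∈ E := Subgroup.mem_sup_right hc
    rw [show g (f c) = f c * ((f c)⁻¹ * g (f c)) by group,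
      hk.map_mul (IsMap.apply_mem_img hcE) (eq ▸ IsMap.apply_mem_img (hQE hq)), hkl c hcE,
      inv_mul_cancel_left, ← eq, hkl q (hQE hq)]
    exact hq

/-- Every automorphism of a centric subgroup in a normal subsystem has such an extension. -/
theorem goodExt (hS : IsPGroup p S) (hD : D.IsNormalIn F p) :
    ∀ {Q : Subgroup Ω}, D.IsCentric Q → ∀ α ∈ D.autGroup Q, GoodExt F Q (autFun α) := by
  obtain ⟨hwn, htop⟩ := hD
  obtain ⟨hDs, hF, hinv⟩ := id hwn
  have hsc := hinv.2.1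
  have hTS := hsc.1
  haveI := finite_of_le hTS
  have hTp : IsPGroup p T := hS.of_injective _ (Subgroup.inclusion_injective hTS)
  intro Q hQc
  induction hm : Nat.card T - Nat.card Q using Nat.strong_induction_on generalizing Q with
  | _ m ih =>
  suffices H : ∀ {R : Subgroup Ω}, F.IsFullyNormalized R → D.IsCentric R →
      Nat.card T - Nat.card R = m → ∀ α ∈ D.autGroup R, GoodExt F R (autFun α) by
    intro α hα
    -- move to a fully normalized position
    obtain ⟨Q₀, hQQ₀, hn⟩ := exists_fullyNormalized (F := F) (hQc.1.trans hTS)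
    obtain ⟨f₀, hf₀, hi₀⟩ := isConj_iff.mp hQQ₀
    obtain ⟨-, hfa, hrec⟩ := fullyNormalized_props hS hF hn
    obtain ⟨-, -, f, hf, hfi, -, -⟩ := exists_map_normalizer hS hfa hrec hf₀ hi₀
    have hfQ := hf.mono (le_normalizerIn (hQc.1.trans hTS))
    exact good_of_congr (hQc.1.trans hTS) hf hfi (H hn (hfi ▸ CharSub.centricT_img hinv hQc hfQ)
      (by rw [isConj_card hQQ₀]; exact hm) _ (NormCent.congr_mem_sub hinv hQc.1 hfQ hfi hα))
  clear hQc hm Q
  intro Q hn hQc hm α hα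
  obtain ⟨-, hfa, hrec⟩ := fullyNormalized_props hS hF hn
  have hQT : Q ≤ T := hQc.1
  have hQS := hQT.trans hTS
  rcases hQT.eq_or_lt with rfl | hQlt
  · obtain ⟨β, hβ, eβ, hβc⟩ := htop α hα
    refine ⟨autFun β, (isMap_autFun (sup_le hTS inf_le_left)).mpr hβ, fun x hx => ?_,
      fun c hc => ?_⟩
    · rw [autFun_apply_mem _ (Subgroup.mem_sup_left hx), autFun_apply_mem α hx]
      exact eβ ⟨x, hx⟩
    · rw [autFun_apply_mem _ (Subgroup.mem_sup_right hc)]
      exact (hβc ⟨c, Subgroup.mem_sup_right hc⟩ hc).1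
  haveI := finite_of_le hQT
  haveI : Finite (MulAut Q) := NormCent.finite_mulAut Q
  have hcen : centralizerIn T Q ≤ Q := hQc.2 Q (isConj_refl hQT)
  set G := D.autGroup Q
  set U := autInducedBy T Q
  set W := (goodGroup F hQS).subgroupOf G
  have hUgood : ∀ u ∈ U, GoodExt F Q (autFun u) := fun u hu => by
    obtain ⟨t, ht, et⟩ := mem_autInducedBy.mp hu
    rw [NFam.eq_conjAut (NFam.mem_normalizer_of_induced et) et]
    exact good_conjAut hsc hQT hcen ht _
  haveI : W.Normal := ⟨fun b hb μ => by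
    show GoodExt F Q (autFun ((μ : MulAut Q) * (b : MulAut Q) * (μ : MulAut Q)⁻¹))
    have hμ : (μ : MulAut Q) ∈ F.autGroup Q :=
      (isMap_autFun hQS).mp (isMap_of_sub hinv.1 ((isMap_autFun hQT).mpr μ.2))
    have hμm := (isMap_autFun hQS).mpr hμ
    obtain ⟨g, hg, eg, hgc⟩ := hb
    obtain ⟨m₀, hm₀, em⟩ := receptive_extend hrec hμm (img_autFun _)
    set E := Q ⊔ centralizerIn S Q
    have hmE : IsMap F E m₀ :=
      hm₀.mono (sup_le (le_extSub hμm) (centralizerIn_le_extSub Q _))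
    have hmQ : img Q m₀ = Q := (img_congr em).trans (img_autFun _)
    have hmC : ∀ c ∈ centralizerIn S Q, m₀ c ∈ centralizerIn S Q := fun c hc => by
      have := hmE.mem_centralizerIn le_sup_left (Subgroup.mem_sup_right hc) hc
      rwa [hmQ] at this
    have hmm : ∀ y ∈ E, m₀ y ∈ E := fun y hy => by
      obtain ⟨a, ha, c, hc, rfl⟩ := NormCent.mem_sup_centralizerIn.mp hy
      rw [hmE.map_mul (Subgroup.mem_sup_left ha) (Subgroup.mem_sup_right hc), em a ha]
      exact Subgroup.mul_mem _ (Subgroup.mem_sup_left (autFun_mem _ ha))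
        (Subgroup.mem_sup_right (hmC c hc))
    haveI := finite_of_le hmE.le
    obtain ⟨k, hk, -, hkl, -⟩ := hmE.exists_inv
    rw [img_eq_of_apply hmE le_rfl hmm] at hk
    have hkE : ∀ y ∈ E, k y ∈ E := fun y hy => by
      rw [← img_eq_of_apply hmE le_rfl hmm] at hy
      obtain ⟨x, hx, rfl⟩ := hmE.mem_img.mp hy
      rwa [hkl x hx]
    refine ⟨m₀ ∘ (g ∘ k), (hk.comp hg hkE).comp hmE fun y hy =>
      GoodExt.maps hg eg hgc (hkE y hy), fun x hx => ?_, fun c hc => ?_⟩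
    · show m₀ (g (k x)) = _
      have hx' := autFun_mem (μ : MulAut Q)⁻¹ hx
      have hkx : k x = autFun (μ : MulAut Q)⁻¹ x := by
        conv_lhs => rw [← autFun_inv_apply (μ : MulAut Q) hx, ← em _ hx']
        exact hkl _ (Subgroup.mem_sup_left hx')
      rw [hkx, eg _ hx', em _ (autFun_mem _ hx'), ← autFun_mul _ _ hx', ← autFun_mul _ _ hx]
      rfl
    · show c⁻¹ * m₀ (g (k c)) ∈ Q
      have hc' : k c ∈ centralizerIn S Q := by
        haveI := finite_of_le (inf_le_left : centralizerIn S Q ≤ S)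
        have himg := img_eq_of_apply hmE le_sup_right hmC
        have hc2 : c ∈ img (centralizerIn S Q) m₀ := himg.symm ▸ hc
        obtain ⟨d, hd, rfl⟩ := (hmE.mono le_sup_right).mem_img.mp hc2
        rwa [hkl d (Subgroup.mem_sup_right hd)]
      have e1 : m₀ (k c) = c := by
        have hcE : c ∈ img E m₀ :=
          (img_eq_of_apply hmE le_rfl hmm).symm ▸ Subgroup.mem_sup_right hc
        obtain ⟨d, hd, rfl⟩ := hmE.mem_img.mp hcE
        rw [hkl d hd]
      rw [show g (k c) = k c * ((k c)⁻¹ * g (k c)) by group,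
        hmE.map_mul (Subgroup.mem_sup_right hc') (Subgroup.mem_sup_left (hgc _ hc')), e1,
        inv_mul_cancel_left, em _ (hgc _ hc')]
      exact autFun_mem _ (hgc _ hc')⟩
  have hDn := NormCent.fullyNormalized_sub hS hF hinv hQT hn
  obtain ⟨-, V, hV⟩ := (fullyNormalized_props hTp hDs hDn).2.1
  have hVW : (V : Subgroup G) ≤ W := fun v hv => by
    rw [hV] at hv
    exact hUgood _ hv
  have htopW := Sylow.normalizer_sup_eq_top (V.subtype hVW)
  rw [Sylow.coe_subtype, Subgroup.subgroupOf_map_subtype, inf_eq_left.mpr hVW, sup_comm] at htopW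
  suffices hcore : ∀ b : G, b ∈ Subgroup.normalizer ((V : Subgroup G) : Set G) →
      (orderOf b).Coprime p → b ∈ W by
    have : (⊤ : Subgroup G) ≤ W := by
      rw [← htopW]
      refine sup_le le_rfl fun ν hν => ?_
      obtain ⟨a, b, ha, hb, hab, hak, hbcop⟩ := Cfsg.Lib.Transfer.exists_pPart p ν
      have haN := (Subgroup.zpowers_le.mpr hν) ha
      have hbN := (Subgroup.zpowers_le.mpr hν) hb
      rw [← hab]
      refine W.mul_mem (hVW ?_) (hcore b hbN hbcop)
      obtain ⟨k, hk⟩ := hak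
      have hap : IsPGroup p (Subgroup.zpowers a) :=
        IsPGroup.of_card (n := k) ((Nat.card_zpowers a).trans hk)
      have hsup := IsPGroup.to_sup_of_normal_right' hap V.2 (Subgroup.zpowers_le.mpr haN)
      exact (V.is_maximal' hsup le_sup_right).le
        (Subgroup.mem_sup_left (Subgroup.mem_zpowers a))
    exact this (Subgroup.mem_top (⟨α, hα⟩ : G))
  intro b hbN hbcop
  show GoodExt F Q (autFun (b : MulAut Q))
  -- extend to `N = N_T(Q)`
  set N := normalizerIn T Q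
  have hQN : Q ≤ N := le_normalizerIn hQT
  have hNT : N ≤ T := inf_le_left
  haveI := finite_of_le hNT
  have hNlt : Nat.card Q < Nat.card N := lt_of_le_of_ne (Subgroup.card_le_of_le hQN) fun e =>
    (lt_normalizerIn hTp hQlt).ne (Subgroup.eq_of_le_of_card_ge hQN e.ge)
  have hbm : IsMap D Q (autFun (b : MulAut Q)) := (isMap_autFun hQT).mpr b.2
  obtain ⟨g, hg, eg⟩ := receptive_extend (fullyNormalized_props hTp hDs hDn).2.2 hbm (img_autFun _)
  have hle : N ≤ extSub T Q (autFun (b : MulAut Q)) := fun t ht => by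
    have h1 : (⟨conjAut Q t ht.2, autInducedBy_le hQT (conjAut_mem_autInducedBy ht.2 ht.1)⟩ : G) ∈
        (V : Subgroup G) := by
      rw [hV]; exact conjAut_mem_autInducedBy ht.2 ht.1
    have h2 := (Subgroup.mem_normalizer_iff.mp hbN _).mp h1
    rw [hV] at h2
    obtain ⟨s, hs, es⟩ := mem_autInducedBy.mp h2
    refine mem_extSub.mpr ⟨ht.1, ht.2, s, hs, fun x hx => ?_⟩
    have h3 := es ⟨autFun (b : MulAut Q) x, autFun_mem _ hx⟩
    rw [← autFun_apply] at h3
    rw [← h3]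
    show _ = autFun ((b : MulAut Q) * conjAut Q t ht.2 * (b : MulAut Q)⁻¹) _
    rw [← autFun_mul _ _ hx, inv_mul_cancel_right, autFun_mul _ _ hx, autFun_apply_mem _ hx,
      conjAut_apply]
  have hgN := hg.mono hle
  have hgNN : ∀ t ∈ N, g t ∈ N := fun t ht => by
    have := hgN.mem_normalizerIn hQN ht ht.2
    rwa [(img_congr eg).trans (img_autFun _)] at this
  obtain ⟨μ₀, hμ₀, eμ₀⟩ := hgN.exists_aut (img_eq_of_apply hgN le_rfl hgNN)
  have hbc : (orderOf (b : MulAut Q)).Coprime p := by rw [Subgroup.orderOf_coe]; exact hbcop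
  obtain ⟨n₀, hn₀, eN⟩ := NormCent.exists_coprime_agree (hNT) hQN
    (fun x hx => (eμ₀ x (hQN hx)).trans (eg x hx)) hbc
  set μN := μ₀ ^ n₀
  have hμN : μN ∈ D.autGroup N := pow_mem hμ₀ n₀
  have hNc : D.IsCentric N := centric_of_le hQc hQN hNT
  obtain ⟨g₁, hg₁, eg₁, hg₁c⟩ :=
    ih (Nat.card T - Nat.card N) (by have := Subgroup.card_le_of_le hNT; omega) hNc rfl μN hμN
  set R := N ⊔ centralizerIn S N
  have hRS : R ≤ S := sup_le (hNT.trans hTS) inf_le_left
  haveI := finite_of_le hRS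
  haveI : Finite (MulAut R) := NormCent.finite_mulAut R
  obtain ⟨W₁, hW₁, eW₁⟩ := hg₁.exists_aut
    (img_eq_of_apply hg₁ le_rfl fun y hy => GoodExt.maps hg₁ eg₁ hg₁c hy)
  obtain ⟨n₁, hn₁, eR⟩ := NormCent.exists_coprime_agree hRS (le_sup_left : N ≤ R)
    (fun x hx => (eW₁ x (Subgroup.mem_sup_left hx)).trans (eg₁ x hx)) hn₀
  set μR := W₁ ^ n₁
  have hμR : μR ∈ F.autGroup R := pow_mem hW₁ n₁
  have hμRm := (isMap_autFun hRS).mpr hμR
  -- trivial modulo `N`
  let J : Subgroup (MulAut R) :=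
    { carrier := {β | (∀ x ∈ N, autFun β x ∈ N) ∧ ∀ x ∈ R, x⁻¹ * autFun β x ∈ N}
      one_mem' := ⟨fun x hx => by rwa [autFun_one (Subgroup.mem_sup_left hx)], fun x hx => by
        rw [autFun_one hx, inv_mul_cancel]; exact N.one_mem⟩
      mul_mem' := fun {a c} ha hc => ⟨fun x hx => by
          rw [autFun_mul _ _ (Subgroup.mem_sup_left hx)]; exact ha.1 _ (hc.1 x hx),
        fun x hx => by
          rw [autFun_mul _ _ hx, show x⁻¹ * autFun a (autFun c x) =
            (x⁻¹ * autFun c x) * ((autFun c x)⁻¹ * autFun a (autFun c x)) by group]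
          exact N.mul_mem (hc.2 x hx) (ha.2 _ (autFun_mem c hx))⟩
      inv_mem' := fun {a} ha => by
        have hr : ∀ x ∈ R, x⁻¹ * autFun a⁻¹ x ∈ N := fun x hx => by
          have h := ha.2 _ (autFun_mem a⁻¹ hx)
          rw [autFun_inv_apply a hx] at h
          have := N.inv_mem h
          rwa [mul_inv_rev, inv_inv] at this
        exact ⟨fun x hx => by
          have := N.mul_mem hx (hr x (Subgroup.mem_sup_left hx))
          rwa [mul_inv_cancel_left] at this, hr⟩ }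
  have hnNR : ∀ y ∈ R, y ∈ Subgroup.normalizer (N : Set Ω) :=
    fun y hy => (sup_le Subgroup.le_normalizer
      fun c hc => (centralizerIn_le_normalizerIn N hc).2 : R ≤ Subgroup.normalizer (N : Set Ω)) hy
  have hW₁J : W₁ ∈ J := by
    refine ⟨fun x hx => ?_, fun x hx => ?_⟩
    · rw [eW₁ x (Subgroup.mem_sup_left hx), eg₁ x hx]; exact autFun_mem _ hx
    · obtain ⟨a, ha, c, hc, rfl⟩ := NormCent.mem_sup_centralizerIn.mp hx
      rw [eW₁ _ hx, hg₁.map_mul (Subgroup.mem_sup_left ha) (Subgroup.mem_sup_right hc), eg₁ a ha,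
        show (a * c)⁻¹ * (autFun μN a * g₁ c) =
          (c⁻¹ * (a⁻¹ * autFun μN a) * c⁻¹⁻¹) * (c⁻¹ * g₁ c) by group]
      exact N.mul_mem (conj_mem_of_mem_normalizer
        (Subgroup.inv_mem _ (centralizerIn_le_normalizerIn N hc).2)
        (N.mul_mem (N.inv_mem ha) (autFun_mem _ ha))) (hg₁c c hc)
  have hμJ : μR ∈ J := pow_mem hW₁J n₁
  -- the `p`-group
  set C := centralizerIn S Q
  have hCQ : ∀ c ∈ C, c ∈ Subgroup.normalizer (Q : Set Ω) := fun c hc =>
    (centralizerIn_le_normalizerIn Q hc).2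
  have hCN : ∀ c ∈ C, c ∈ Subgroup.normalizer (N : Set Ω) := fun c hc =>
    mem_normalizer_of_maps_finite fun x hx =>
      ⟨conj_mem_of_mem_normalizer (normalizes_of_stronglyClosed hsc hc.1) hx.1,
        Subgroup.mul_mem _ (Subgroup.mul_mem _ (hCQ c hc) hx.2) (Subgroup.inv_mem _ (hCQ c hc))⟩
  have hCR : ∀ c ∈ C, c ∈ Subgroup.normalizer (R : Set Ω) := fun c hc =>
    mem_normalizer_of_maps_finite fun y hy => by
      obtain ⟨a, ha, d, hd, rfl⟩ := NormCent.mem_sup_centralizerIn.mp hy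
      rw [show c * (a * d) * c⁻¹ = (c * a * c⁻¹) * (c * d * c⁻¹) by group]
      refine Subgroup.mul_mem _ (Subgroup.mem_sup_left (conj_mem_of_mem_normalizer (hCN c hc) ha))
        (Subgroup.mem_sup_right (Fusion.mem_centralizerIn.mpr
          ⟨S.mul_mem (S.mul_mem hc.1 hd.1) (S.inv_mem hc.1), fun x hx => ?_⟩))
      have hx' := conj_mem_of_mem_normalizer (Subgroup.inv_mem _ (hCN c hc)) hx
      calc c * d * c⁻¹ * x * (c * d * c⁻¹)⁻¹ = c * (d * (c⁻¹ * x * c⁻¹⁻¹) * d⁻¹) * c⁻¹ := by group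
        _ = x := by rw [(Fusion.mem_centralizerIn.mp hd).2 _ hx']; group
  have hQR : Q ≤ R := hQN.trans le_sup_left
  let B : Subgroup (MulAut R) :=
    { carrier := {β | β ∈ F.autGroup R ∧ β ∈ J ∧ ∀ z ∈ Q, autFun β z = z}
      one_mem' := ⟨one_mem _, one_mem _, fun z hz => autFun_one (hQR hz)⟩
      mul_mem' := fun {a c} ha hc => ⟨mul_mem ha.1 hc.1, mul_mem ha.2.1 hc.2.1, fun z hz => by
        rw [autFun_mul _ _ (hQR hz), hc.2.2 z hz, ha.2.2 z hz]⟩
      inv_mem' := fun {a} ha =>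
        ⟨(F.autGroup R).inv_mem ha.1, J.inv_mem ha.2.1, fun z hz => by
          conv_lhs => rw [← ha.2.2 z hz]
          exact autFun_inv_apply' a (hQR hz)⟩ }
  have hBp : IsPGroup p B := fun β => by
    obtain ⟨kQ, hkQ⟩ := IsPGroup.iff_card.mp (hS.of_injective _ (Subgroup.inclusion_injective hQS))
    obtain ⟨kN, hkN⟩ := IsPGroup.iff_card.mp
      (hS.of_injective _ (Subgroup.inclusion_injective (hNT.trans hTS)))
    refine ⟨kQ + kN, Subtype.ext ?_⟩
    rw [SubgroupClass.coe_pow, Subgroup.coe_one, pow_add, pow_mul, ← hkQ, ← hkN]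
    obtain ⟨hβF, hβJ, hβQ⟩ := β.2
    set γ := ((β : MulAut R)) ^ Nat.card Q
    have hm : IsMap F R (autFun (β : MulAut R)) := (isMap_autFun hRS).mpr hβF
    have hfixN : ∀ t ∈ N, autFun γ t = t := fun t ht => by
      have htR : t ∈ R := Subgroup.mem_sup_left ht
      have hz : t⁻¹ * autFun (β : MulAut R) t ∈ Q := hcen <| Fusion.mem_centralizerIn.mpr
        ⟨T.mul_mem (T.inv_mem (hNT ht)) (hNT (hβJ.1 t ht)), fun z hz => by
          have h1 := hm.map_conj htR (hQR hz)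
          rw [hβQ z hz, hβQ _ (conj_mem_of_mem_normalizer ht.2 hz)] at h1
          calc t⁻¹ * autFun (β : MulAut R) t * z * (t⁻¹ * autFun (β : MulAut R) t)⁻¹ =
              t⁻¹ * (autFun (β : MulAut R) t * z * (autFun (β : MulAut R) t)⁻¹) * t := by group
            _ = z := by rw [← h1]; group⟩
      have hpow : ∀ i : ℕ, autFun ((β : MulAut R) ^ i) t =
          t * (t⁻¹ * autFun (β : MulAut R) t) ^ i := by
        intro i
        induction i with
        | zero => rw [pow_zero, autFun_one htR, pow_zero, mul_one]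
        | succ i ih =>
          rw [pow_succ', autFun_mul _ _ htR, ih, hm.map_mul htR (hQR (Q.pow_mem hz i)),
            hm.map_pow (hQR hz), hβQ _ hz, pow_succ', ← mul_assoc, ← mul_assoc,
            mul_inv_cancel, one_mul]
      have h2 : (⟨_, hz⟩ : Q) ^ Nat.card Q = 1 := pow_card_eq_one'
      show autFun ((β : MulAut R) ^ Nat.card Q) t = t
      rw [hpow, show (t⁻¹ * autFun (β : MulAut R) t) ^ Nat.card Q = 1 from congrArg Subtype.val h2,
        mul_one]
    have hγJ : γ ∈ J := pow_mem hβJ _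
    have hγm : IsMap F R (autFun γ) := (isMap_autFun hRS).mpr (pow_mem hβF _)
    refine NFam.eq_of_autFun fun y hy => ?_
    have hpow : ∀ i : ℕ, autFun (γ ^ i) y = y * (y⁻¹ * autFun γ y) ^ i := by
      intro i
      induction i with
      | zero => rw [pow_zero, autFun_one hy, pow_zero, mul_one]
      | succ i ih =>
        have hNR : N ≤ R := le_sup_left
        rw [pow_succ', autFun_mul _ _ hy, ih, hγm.map_mul hy (hNR (N.pow_mem (hγJ.2 y hy) i)),
          hγm.map_pow (hNR (hγJ.2 y hy)), hfixN _ (hγJ.2 y hy), pow_succ', ← mul_assoc,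
          ← mul_assoc, mul_inv_cancel, one_mul]
    have h2 : (⟨_, hγJ.2 y hy⟩ : N) ^ Nat.card N = 1 := pow_card_eq_one'
    rw [hpow, show (y⁻¹ * autFun γ y) ^ Nat.card N = 1 from congrArg Subtype.val h2, mul_one,
      autFun_one hy]
  have hκN : ∀ c (hc : c ∈ C), ∀ x ∈ N, autFun (conjAut R c (hCR c hc)) x ∈ N :=
    fun c hc x hx => by
      rw [autFun_apply_mem _ (Subgroup.mem_sup_left hx), conjAut_apply]
      exact conj_mem_of_mem_normalizer (hCN c hc) hx
  have hκQ : ∀ c (hc : c ∈ C), ∀ z ∈ Q, autFun (conjAut R c (hCR c hc)) z = z :=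
    fun c hc z hz => by
      rw [autFun_apply_mem _ (hQR hz), conjAut_apply]
      exact (Fusion.mem_centralizerIn.mp hc).2 z hz
  have hκF : ∀ c (hc : c ∈ C), conjAut R c (hCR c hc) ∈ F.autGroup R := fun c hc =>
    autInducedBy_le hRS (conjAut_mem_autInducedBy _ hc.1)
  have hJn : ∀ c (hc : c ∈ C), ∀ β ∈ J,
      conjAut R c (hCR c hc) * β * (conjAut R c (hCR c hc))⁻¹ ∈ J := fun c hc β hβ => by
    set κ := conjAut R c (hCR c hc)
    have hκi : ∀ x ∈ N, autFun κ⁻¹ x ∈ N := fun x hx => by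
      have hx' : c⁻¹ * x * c⁻¹⁻¹ ∈ N :=
        conj_mem_of_mem_normalizer (Subgroup.inv_mem _ (hCN c hc)) hx
      have h1 : autFun κ (c⁻¹ * x * c⁻¹⁻¹) = x := by
        rw [autFun_apply_mem _ (Subgroup.mem_sup_left hx'), conjAut_apply]; group
      rw [← h1, autFun_inv_apply' κ (Subgroup.mem_sup_left hx')]
      exact hx'
    refine ⟨fun x hx => ?_, fun x hx => ?_⟩
    · rw [autFun_mul _ _ (Subgroup.mem_sup_left hx),
        autFun_mul _ _ (autFun_mem _ (Subgroup.mem_sup_left hx))]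
      exact hκN c hc _ (hβ.1 _ (hκi x hx))
    · have h2 := hκN c hc _ (hβ.2 _ (autFun_mem κ⁻¹ hx))
      have hκm : IsMap F R (autFun κ) := (isMap_autFun hRS).mpr (hκF c hc)
      rw [hκm.map_mul (R.inv_mem (autFun_mem _ hx)) (autFun_mem _ (autFun_mem _ hx)),
        hκm.map_inv (autFun_mem _ hx), autFun_inv_apply κ hx] at h2
      rw [autFun_mul _ _ hx, autFun_mul _ _ (autFun_mem _ hx)]
      exact h2
  set A := autInducedBy C R
  have hAn : A ≤ Subgroup.normalizer (B : Set (MulAut R)) :=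
    NormCent.le_normalizer_of_conj fun a ha β hβ => by
      obtain ⟨c, hc, ec⟩ := mem_autInducedBy.mp ha
      rw [NFam.eq_conjAut (hCR c hc) ec]
      refine ⟨mul_mem (mul_mem (hκF c hc) hβ.1) (Subgroup.inv_mem _ (hκF c hc)), hJn c hc β hβ.2.1,
        fun z hz => ?_⟩
      have hzi : autFun (conjAut R c (hCR c hc))⁻¹ z = z := by
        conv_lhs => rw [← hκQ c hc z hz]
        exact autFun_inv_apply' _ (hQR hz)
      rw [autFun_mul _ _ (hQR hz), autFun_mul _ _ (autFun_mem _ (hQR hz)), hzi, hβ.2.2 z hz,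
        hκQ c hc z hz]
  have hKp : IsPGroup p (A ⊔ B : Subgroup (MulAut R)) :=
    ((isPGroup_autInducedBy hS R).to_le (autInducedBy_mono inf_le_left)).to_sup_of_normal_right'
      hBp hAn
  have hKle : A ⊔ B ≤ F.autGroup R :=
    sup_le ((autInducedBy_mono inf_le_left).trans (autInducedBy_le hRS)) fun β hβ => hβ.1
  have hμQ : ∀ z ∈ Q, autFun μR z = autFun (b : MulAut Q) z := fun z hz => by
    rw [eR z (hQN hz), eN z hz]
  have hμiQ : ∀ z ∈ Q, autFun μR⁻¹ z = autFun (b : MulAut Q)⁻¹ z := fun z hz => by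
    have hz' := autFun_mem (b : MulAut Q)⁻¹ hz
    conv_lhs => rw [← autFun_inv_apply (b : MulAut Q) hz, ← hμQ _ hz']
    exact autFun_inv_apply' μR (hQR hz')
  have hcK : ∀ c (hc : c ∈ C), conjAut R c (hCR c hc) ∈ A ⊔ B ∧
      μR * conjAut R c (hCR c hc) * μR⁻¹ ∈ A ⊔ B := fun c hc => by
    set κ := conjAut R c (hCR c hc)
    have hκA : κ ∈ A := conjAut_mem_autInducedBy _ hc
    refine ⟨Subgroup.mem_sup_left hκA, ?_⟩
    have hB : μR * κ * μR⁻¹ * κ⁻¹ ∈ B := by
      refine ⟨mul_mem (mul_mem (mul_mem hμR (hκF c hc)) (Subgroup.inv_mem _ hμR))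
        (Subgroup.inv_mem _ (hκF c hc)), ?_, fun z hz => ?_⟩
      · rw [show μR * κ * μR⁻¹ * κ⁻¹ = μR * (κ * μR⁻¹ * κ⁻¹) by group]
        exact J.mul_mem hμJ (hJn c hc _ (J.inv_mem hμJ))
      · have hzi : autFun κ⁻¹ z = z := by
          conv_lhs => rw [← hκQ c hc z hz]
          exact autFun_inv_apply' κ (hQR hz)
        have hz' := autFun_mem (b : MulAut Q)⁻¹ hz
        rw [autFun_mul _ _ (hQR hz), hzi, autFun_mul _ _ (hQR hz), autFun_mul _ _
          (autFun_mem _ (hQR hz)), hμiQ z hz, hκQ c hc _ hz', hμQ _ hz', autFun_inv_apply _ hz]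
    have := Subgroup.mul_mem _ (Subgroup.mem_sup_right (S := A) hB)
      (Subgroup.mem_sup_left (T := B) hκA)
    rwa [inv_mul_cancel_right] at this
  set M := R ⊔ C
  obtain ⟨Λ₀, hΛ₀, eΛ₀, hΛ₀C⟩ : ∃ μ ∈ F.autGroup M, (∀ x ∈ R, autFun μ x = autFun μR x) ∧
      ∀ c ∈ C, autFun μ c ∈ C := exists_ext_centralizer hS hF hRS hQR hn hCR hKp hKle hμR
    (fun z hz => (hμQ z hz).symm ▸ autFun_mem _ hz) hcK
  have hMS : M ≤ S := sup_le hRS inf_le_left
  haveI := finite_of_le hMS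
  obtain ⟨n₂, hn₂, eΛ⟩ := NormCent.exists_coprime_agree hMS (le_sup_left : R ≤ M) eΛ₀ hn₁
  set Λ := Λ₀ ^ n₂
  have hΛ : Λ ∈ F.autGroup M := pow_mem hΛ₀ n₂
  have hΛm := (isMap_autFun hMS).mpr hΛ
  have hΛC : ∀ c ∈ C, autFun Λ c ∈ C := by
    have : ∀ i : ℕ, ∀ c ∈ C, autFun (Λ₀ ^ i) c ∈ C := by
      intro i
      induction i with
      | zero => intro c hc; rwa [pow_zero, autFun_one (Subgroup.mem_sup_right hc)]
      | succ i ih =>
        intro c hc
        rw [pow_succ', autFun_mul _ _ (Subgroup.mem_sup_right hc)]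
        exact hΛ₀C _ (ih c hc)
    exact this n₂
  have hΛN : ∀ x ∈ N, autFun Λ x = autFun μN x := fun x hx => by
    rw [eΛ x (Subgroup.mem_sup_left hx), eR x hx]
  have hQM : Q ≤ M := hQR.trans le_sup_left
  have hΛQ : ∀ z ∈ Q, autFun Λ z = autFun (b : MulAut Q) z := fun z hz => by
    rw [eΛ z (hQR hz), hμQ z hz]
  have hnM : M ≤ Subgroup.normalizer (Q : Set Ω) :=
    sup_le (sup_le (fun x hx => hx.2) fun d hd =>
      (centralizerIn_le_normalizerIn Q (NormCent.centralizerIn_anti hQN hd)).2) hCQ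
  refine ⟨autFun Λ, hΛm.mono (sup_le hQM le_sup_right), hΛQ, fun c hc => ?_⟩
  -- the shift
  set y := autFun Λ c * c⁻¹
  have hcM : c ∈ M := Subgroup.mem_sup_right hc
  have hyC : y ∈ C := C.mul_mem (hΛC c hc) (C.inv_mem hc)
  have hyD : conjAut N y (hCN y hyC) ∈ D.autGroup N := by
    have hcN : IsMap F N (fun x => c * x * c⁻¹) := isMap_conj (hNT.trans hTS) hc.1
    have hci : img N (fun x => c * x * c⁻¹) = N :=
      img_eq_of_apply hcN le_rfl fun x hx => conj_mem_of_mem_normalizer (hCN c hc) hx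
    have h1 := NormCent.congr_mem_sub hinv hNT hcN hci ((D.autGroup N).inv_mem hμN)
    convert Subgroup.mul_mem _ hμN h1 using 1
    refine NFam.eq_of_autFun fun x hx => ?_
    have hx' : c⁻¹ * x * c⁻¹⁻¹ ∈ N := conj_mem_of_mem_normalizer (hCN _ (C.inv_mem hc)) hx
    have h2 := congr_equiv_spec hcN hci μN⁻¹ hx'
    rw [show c * (c⁻¹ * x * c⁻¹⁻¹) * c⁻¹ = x by group] at h2
    have hu := autFun_mem μN⁻¹ hx'
    have hu' : c * autFun μN⁻¹ (c⁻¹ * x * c⁻¹⁻¹) * c⁻¹ ∈ N :=
      conj_mem_of_mem_normalizer (hCN c hc) hu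
    rw [autFun_mul _ _ hx, h2, autFun_apply_mem _ hx, conjAut_apply, ← hΛN _ hu',
      hΛm.map_conj hcM (Subgroup.mem_sup_left (Subgroup.mem_sup_left hu)),
      hΛN _ hu, autFun_inv_apply μN hx']
    simp only [y]
    group
  obtain ⟨q, hq, hv⟩ := exists_mem_centralizer_mul hS hwn hQc hQN hNT hyC (hCN y hyC) hyD
  set v := q⁻¹ * y
  have hvR : v ∈ R := Subgroup.mem_sup_right hv
  have hvC : v ∈ C := NormCent.centralizerIn_anti hQN hv
  have hz : v⁻¹ * autFun μR v ∈ Q := by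
    have h1 := hμJ.2 v hvR
    refine hcen (Fusion.mem_centralizerIn.mpr ⟨hNT h1, fun x hx => ?_⟩)
    have h2 : v⁻¹ * autFun μR v ∈ C := by
      rw [← eΛ v hvR]
      exact C.mul_mem (C.inv_mem hvC) (hΛC v hvC)
    exact (Fusion.mem_centralizerIn.mp h2).2 x hx
  have hsh : y⁻¹ * autFun Λ y ∈ Q := by
    have hy : y = q * v := by simp only [v]; group
    rw [hy, hΛm.map_mul (hQM hq) (Subgroup.mem_sup_left hvR), hΛQ q hq, eΛ v hvR,
      show (q * v)⁻¹ * (autFun (b : MulAut Q) q * autFun μR v) =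
        (v⁻¹ * (q⁻¹ * autFun (b : MulAut Q) q) * v⁻¹⁻¹) * (v⁻¹ * autFun μR v) by group]
    exact Q.mul_mem (conj_mem_of_mem_normalizer (Subgroup.inv_mem _ (hCQ v hvC))
      (Q.mul_mem (Q.inv_mem hq) (autFun_mem _ hq))) hz
  have hyQ : y ∈ Q := NormCent.mem_of_shift (F := F) hS hMS (fun x hx => hQM hx) hnM hΛ
    (fun x hx => (hΛQ x hx).symm ▸ autFun_mem _ hx) hn₂ hcM hsh
  have h3 := conj_mem_of_mem_normalizer (Subgroup.inv_mem _ (hCQ c hc)) hyQ
  convert h3 using 1
  simp only [y]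
  group

end Cfsg.Lib.Fusion.NExt
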