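import Cfsg.Agent.Fusion.NormalCentralizer.Realize
import Cfsg.Agent.Fusion.WeaklyNormalLeast

/-!
Weakly normal subsystems: detecting membership on a centric subgroup.
-/

set_option autoImplicit false
set_option linter.unusedSectionVars false
set_option linter.style.haveILetI false

namespace Cfsg.Lib.Fusion.NExt

open Cfsg Cfsg.FusionSystem Cfsg.Lib.Fusion

universe u

variable {Ω : Type u} [Group Ω] {S T : Subgroup Ω} {F : FusionSystem S} {D : FusionSystem T}
  {p : ℕ} [Finite S] [Fact p.Prime]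

/-- An automorphism of order prime to `p` is in a weakly normal subsystem if its restriction to an
invariant centric subgroup is. -/
theorem mem_of_restrict_centric (hS : IsPGroup p S) (hD : D.IsWeaklyNormalIn F p)
    {B : Subgroup Ω} (hBT : B ≤ T) {μ : MulAut B} (hμ : μ ∈ F.autGroup B)
    (hcop : (orderOf μ).Coprime p) :
    ∀ {R : Subgroup Ω}, D.IsCentric R → R ≤ B → (∀ r ∈ R, autFun μ r ∈ R) →
      IsMap D R (autFun μ) → μ ∈ D.autGroup B := by
  obtain ⟨hDs, hF, hinv⟩ := hD
  have hTS : T ≤ S := hinv.2.1.1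
  haveI := finite_of_le hTS
  have hTp : IsPGroup p T := hS.of_injective _ (Subgroup.inclusion_injective hTS)
  have hBS : B ≤ S := hBT.trans hTS
  haveI := finite_of_le hBS
  obtain ⟨m, hm⟩ := IsPGroup.iff_card.mp (hS.of_injective _ (Subgroup.inclusion_injective hBS))
  have hμm : IsMap F B (autFun μ) := (isMap_autFun hBS).mpr hμ
  intro R hRc
  induction hk : Nat.card B - Nat.card R using Nat.strong_induction_on generalizing R with
  | _ k ih =>
  intro hRB hst hR
  rcases eq_or_ne R B with rfl | hne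
  · exact (isMap_autFun hBT).mp hR
  have hlt := lt_inf_normalizer hS (lt_of_le_of_ne hRB hne) hBS
  set N := B ⊓ Subgroup.normalizer (R : Set Ω)
  have hNB : N ≤ B := inf_le_left
  have hNT : N ≤ T := hNB.trans hBT
  haveI := finite_of_le (hNT.trans hTS)
  haveI := finite_of_le (hRB.trans hBS)
  have hRi : img R (autFun μ) = R := img_eq_of_apply hμm hRB hst
  have hrec := receptive_of_fullyCentralized hTp hDs (fullyCentralized_of_centric
    (fun _ => Set.Subset.rfl) (centric_of_isConj hRc (isConj_iff.mpr ⟨_, hR, rfl⟩)))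
  obtain ⟨g', hg', hge⟩ := receptive_extend hrec hR rfl
  have hext : N ≤ extSub T R (autFun μ) := fun t ht => mem_extSub.mpr
    ⟨hNT ht, ht.2, autFun μ t, hBT (autFun_mem μ ht.1), fun y hy => hμm.map_conj ht.1 (hRB hy)⟩
  have hgN := hg'.mono hext
  have hgF : IsMap F N g' := isMap_of_sub hinv.1 hgN
  have hμR : ∀ r ∈ R, autFun μ⁻¹ r ∈ R := fun r hr => by
    rw [← hRi] at hr
    obtain ⟨x, hx, rfl⟩ := (hμm.mono hRB).mem_img.mp hr
    rwa [autFun_inv_apply' μ (hRB hx)]
  -- the difference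
  have hdz : ∀ t ∈ N, (autFun μ t)⁻¹ * g' t ∈ R := fun t ht => by
    refine hRc.2 R (isConj_refl hRc.1) (Fusion.mem_centralizerIn.mpr
      ⟨T.mul_mem (T.inv_mem (hBT (autFun_mem _ ht.1))) (hgN.mem_S ht), fun r hr => ?_⟩)
    have hr0 := hμR r hr
    have h1 := hgF.map_conj ht (hlt.le hr0)
    rw [hge _ (conj_mem_of_mem_normalizer ht.2 hr0), hge _ hr0,
      hμm.map_conj ht.1 (hRB hr0), autFun_inv_apply μ (hRB hr)] at h1
    calc (autFun μ t)⁻¹ * g' t * r * ((autFun μ t)⁻¹ * g' t)⁻¹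
        = (autFun μ t)⁻¹ * (g' t * r * (g' t)⁻¹) * autFun μ t := by group
      _ = r := by rw [← h1]; group
  have hgB : ∀ t ∈ N, g' t ∈ B := fun t ht => by
    have := B.mul_mem (autFun_mem μ ht.1) (hRB (hdz t ht))
    rwa [mul_inv_cancel_left] at this
  have hμi : IsMap F B (autFun μ⁻¹) := (isMap_autFun hBS).mpr (Subgroup.inv_mem _ hμ)
  have hdm : IsMap F N (autFun μ⁻¹ ∘ g') := hgF.comp hμi hgB
  have hdR : ∀ r ∈ R, autFun μ⁻¹ (g' r) = r := fun r hr => by
    rw [hge r hr, autFun_inv_apply' μ (hRB hr)]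
  have hdz' : ∀ t ∈ N, t⁻¹ * autFun μ⁻¹ (g' t) ∈ R := fun t ht => by
    have h := hμR _ (hdz t ht)
    rw [hμi.map_mul (B.inv_mem (autFun_mem μ ht.1)) (hgB t ht), hμi.map_inv (autFun_mem μ ht.1),
      autFun_inv_apply' μ ht.1] at h
    exact h
  have hdN : ∀ t ∈ N, (autFun μ⁻¹ ∘ g') t ∈ N := fun t ht => by
    show autFun μ⁻¹ (g' t) ∈ N
    rw [show autFun μ⁻¹ (g' t) = t * (t⁻¹ * autFun μ⁻¹ (g' t)) by group]
    exact N.mul_mem ht (hlt.le (hdz' t ht))
  obtain ⟨d, hd, ed⟩ := hdm.exists_aut (img_eq_of_apply hdm le_rfl hdN)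
  have hg'e : ∀ x ∈ N, g' x = autFun μ (autFun d x) := fun x hx => by
    rw [ed x hx]
    exact (autFun_inv_apply μ (hgB x hx)).symm
  -- all powers
  have hpow : ∀ i : ℕ, IsMap D N (fun x => autFun (μ ^ i) (autFun (d ^ i) x)) := by
    intro i
    induction i with
    | zero =>
      refine (isMap_id hNT).congr fun x hx => ?_
      rw [pow_zero, pow_zero, autFun_one hx, autFun_one (hNB hx)]
      rfl
    | succ i ih =>
      have h2 := strongInv_of_invariant hinv N B hNB hBT g' hgN hgB (autFun (μ ^ i))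
        ((isMap_autFun hBS).mpr (Subgroup.pow_mem _ hμ i))
        (fun y => autFun (μ ^ i) (g' (autFun (μ ^ i)⁻¹ y))) fun x hx => by
          show autFun (μ ^ i) (g' (autFun (μ ^ i)⁻¹ (autFun (μ ^ i) x))) = _
          rw [autFun_inv_apply' _ (hNB hx)]
      refine (ih.comp h2 fun x hx =>
        IsMap.apply_mem_img (autFun_mem (d ^ i) hx)).congr fun x hx => ?_
      show autFun (μ ^ (i + 1)) (autFun (d ^ (i + 1)) x) =
        autFun (μ ^ i) (g' (autFun (μ ^ i)⁻¹ (autFun (μ ^ i) (autFun (d ^ i) x))))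
      rw [autFun_inv_apply' _ (hNB (autFun_mem _ hx)), hg'e _ (autFun_mem _ hx), pow_succ,
        pow_succ' d, autFun_mul _ _ hx,
        autFun_mul _ _ (hNB (autFun_mem d (autFun_mem (d ^ i) hx)))]
  have hdo : d ^ orderOf μ ∈ D.autGroup N := by
    refine (isMap_autFun hNT).mp ((hpow (orderOf μ)).congr fun x hx => ?_)
    rw [pow_orderOf_eq_one, autFun_one (hNB (autFun_mem _ hx))]
  have hdp : d ^ p ^ m = 1 := by
    rw [← hm]
    refine chain_pow_eq_one d (R : Set Ω) (fun x hx => Subtype.ext ?_) (fun x => ?_)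
      fun x => Subtype.ext ?_
    · rw [← autFun_apply, ed x x.2]
      exact hdR _ hx
    · show (x : Ω)⁻¹ * ((d x : N) : Ω) ∈ R
      rw [← autFun_apply, ed x x.2]
      exact hdz' _ x.2
    · have := congrArg Subtype.val (pow_card_eq_one' (x := (⟨x, hNB x.2⟩ : B)))
      simpa only [Subgroup.coe_pow, Subgroup.coe_one] using this
  have hdD : d ∈ D.autGroup N := by
    haveI : Finite (MulAut N) := NormCent.finite_mulAut N
    obtain ⟨j, hj⟩ := exists_pow_eq_self_of_coprime (show (orderOf μ).Coprime (orderOf d) from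
      Nat.Coprime.coprime_dvd_right (orderOf_dvd_of_pow_eq_one hdp) (hcop.pow_right m))
    rw [← hj]
    exact Subgroup.pow_mem _ hdo j
  refine ih (Nat.card B - Nat.card N) ?_ (centric_of_le hRc hlt.le hNT) rfl hNB (fun t ht => ?_) ?_
  · have h3 : Nat.card R < Nat.card N := lt_of_le_of_ne (Subgroup.card_le_of_le hlt.le) fun h =>
      hlt.ne (Subgroup.eq_of_le_of_card_ge hlt.le h.ge)
    have h4 := Subgroup.card_le_of_le hNB
    omega
  · have h1 := (hμm.mono hNB).mem_normalizerIn (P := R) hlt.le ht ht.2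
    rw [hRi] at h1
    exact ⟨autFun_mem μ ht.1, h1.2⟩
  · refine (((isMap_autFun hNT).mpr (Subgroup.inv_mem _ hdD)).comp hgN fun x hx =>
      autFun_mem _ hx).congr fun x hx => ?_
    show autFun μ x = g' (autFun d⁻¹ x)
    rw [hg'e _ (autFun_mem _ hx), autFun_inv_apply d hx]

end Cfsg.Lib.Fusion.NExt
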