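import Cfsg.Agent.Fusion.NormalCentralizer.Realize
import Cfsg.Agent.Fusion.NormalExt.Restrict

/-!
Extending automorphisms across the centralizer of a fully normalized subgroup.
-/

set_option autoImplicit false
set_option linter.unusedSectionVars false
set_option linter.style.haveILetI false

namespace Cfsg.Lib.Fusion.NExt

open Cfsg Cfsg.FusionSystem Cfsg.Lib.Fusion

universe u

variable {Ω : Type u} [Group Ω] {S : Subgroup Ω} {F : FusionSystem S} {p : ℕ}
  [Finite S] [Fact p.Prime]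

/-- An automorphism of `M` stabilizing `Q` and normalizing a `p`-group of automorphisms containing
those induced by `C_S(Q)` extends to `M ⊔ C_S(Q)`. -/
theorem exists_ext_centralizer (hS : IsPGroup p S) (hF : F.IsSaturated p) {M Q : Subgroup Ω}
    (hM : M ≤ S) (hQM : Q ≤ M) (hn : F.IsFullyNormalized Q)
    (hCM : ∀ s ∈ centralizerIn S Q, s ∈ Subgroup.normalizer (M : Set Ω))
    {K : Subgroup (MulAut M)} (hK : IsPGroup p K) (hKle : K ≤ F.autGroup M) {w : MulAut M}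
    (hw : w ∈ F.autGroup M) (hwQ : ∀ z ∈ Q, autFun w z ∈ Q)
    (hc : ∀ s (hs : s ∈ centralizerIn S Q),
      conjAut M s (hCM s hs) ∈ K ∧ w * conjAut M s (hCM s hs) * w⁻¹ ∈ K) :
    ∃ μ ∈ F.autGroup (M ⊔ centralizerIn S Q), (∀ x ∈ M, autFun μ x = autFun w x) ∧
      ∀ c ∈ centralizerIn S Q, autFun μ c ∈ centralizerIn S Q := by
  set A := centralizerIn S Q
  have hAS : A ≤ S := inf_le_left
  have hBS : M ⊔ A ≤ S := sup_le hM hAS
  haveI := finite_of_le hM
  haveI := finite_of_le hAS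
  haveI := finite_of_le hBS
  have hfc := fullyCentralized_of_receptive (fullyNormalized_props hS hF hn).2.2
  have hval : ∀ s (hs : s ∈ A), ∀ x ∈ M, autFun (conjAut M s (hCM s hs)) x = s * x * s⁻¹ :=
    fun s hs x hx => by rw [autFun_apply_mem _ hx]; exact conjAut_apply _ _
  obtain ⟨M', f, hf, hfi, hrec, hreal⟩ := NormCent.exists_map_realize hF hM hK hKle
  have hle₁ : A ≤ extSub S M f := fun s hs => by
    obtain ⟨σ, hσ, eσ⟩ := hreal _ (hc s hs).1
    exact ⟨hAS hs, hCM s hs, σ, hσ, fun x hx => by rw [← hval s hs x hx]; exact eσ x hx⟩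
  have hwm := (isMap_autFun hM).mpr hw
  have hfW : IsMap F M (f ∘ autFun w) := hwm.comp hf fun x hx => autFun_mem w hx
  have hfWi : img M (f ∘ autFun w) = M' := by
    rw [img_comp hwm ((img_autFun w).symm ▸ hf), img_autFun, hfi]
  have hle₂ : A ≤ extSub S M (f ∘ autFun w) := fun s hs => by
    obtain ⟨σ, hσ, eσ⟩ := hreal _ (hc s hs).2
    refine ⟨hAS hs, hCM s hs, σ, hσ, fun x hx => ?_⟩
    have h := eσ _ (autFun_mem w hx)
    rw [autFun_mul _ _ (autFun_mem w hx), autFun_inv_apply' w hx, autFun_mul _ _ hx,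
      hval s hs x hx] at h
    exact h
  obtain ⟨g₁, hg₁, eg₁⟩ := receptive_extend hrec hf hfi
  obtain ⟨g₂, hg₂, eg₂⟩ := receptive_extend hrec hfW hfWi
  have h₁ : IsMap F (M ⊔ A) g₁ := hg₁.mono (sup_le (le_extSub hf) hle₁)
  have h₂ : IsMap F (M ⊔ A) g₂ := hg₂.mono (sup_le (le_extSub hfW) hle₂)
  have hQA : Q ≤ M ⊔ A := hQM.trans le_sup_left
  haveI := finite_of_le (hQM.trans hM)
  have hwQi : img Q (autFun w) = Q := img_eq_of_apply hwm hQM hwQ
  have hQ₁ : img Q g₂ = img Q g₁ := by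
    rw [img_congr fun x hx => eg₂ x (hQM hx), img_congr fun x hx => eg₁ x (hQM hx),
      img_comp (hwm.mono hQM) (hwQi.symm ▸ hf.mono hQM), hwQi]
  set A' := centralizerIn S (img Q g₁)
  have hA₁ : ∀ a ∈ A, g₁ a ∈ A' := fun a ha =>
    h₁.mem_centralizerIn hQA (Subgroup.mem_sup_right ha) ha
  have hA₂ : ∀ a ∈ A, g₂ a ∈ A' := fun a ha => by
    have := h₂.mem_centralizerIn hQA (Subgroup.mem_sup_right ha) ha
    rwa [hQ₁] at this
  have hcA : Nat.card A' ≤ Nat.card A :=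
    hfc.2 _ (isConj_iff.mpr ⟨g₁, h₁.mono hQA, rfl⟩)
  have hsurj : ∀ b ∈ A', ∃ a ∈ A, g₁ a = b := fun b hb =>
    exists_preimage_of_card_le h₁ le_sup_right inf_le_left hA₁ hcA hb
  obtain ⟨k, hk, -, hkl, -⟩ := h₁.exists_inv
  have hA'le : A' ≤ img (M ⊔ A) g₁ := fun b hb => by
    obtain ⟨a, ha, rfl⟩ := hsurj b hb
    exact IsMap.apply_mem_img (Subgroup.mem_sup_right ha)
  have himg : img (M ⊔ A) g₂ ≤ img (M ⊔ A) g₁ := by
    rw [h₂.img_sup]
    refine sup_le ?_ ((IsMap.img_le_iff.mpr hA₂).trans hA'le)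
    rw [img_congr eg₂, hfWi, ← hfi, ← img_congr eg₁]
    exact img_mono le_sup_left g₁
  have hg : IsMap F (M ⊔ A) (k ∘ g₂) :=
    h₂.comp hk fun x hx => himg (IsMap.apply_mem_img hx)
  have hgB : ∀ y ∈ M ⊔ A, k (g₂ y) ∈ M ⊔ A := fun y hy => by
    obtain ⟨x, hx, e⟩ := h₁.mem_img.mp (himg (IsMap.apply_mem_img hy))
    rw [← e, hkl x hx]
    exact hx
  obtain ⟨μ, hμ, eμ⟩ := hg.exists_aut (img_eq_of_apply hg le_rfl hgB)
  refine ⟨μ, hμ, fun x hx => ?_, fun c hc => ?_⟩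
  · rw [eμ x (Subgroup.mem_sup_left hx)]
    show k (g₂ x) = _
    rw [eg₂ x hx]
    show k (f (autFun w x)) = _
    rw [← eg₁ _ (autFun_mem w hx), hkl _ (Subgroup.mem_sup_left (autFun_mem w hx))]
  · rw [eμ c (Subgroup.mem_sup_right hc)]
    show k (g₂ c) ∈ A
    obtain ⟨a, ha, e⟩ := hsurj _ (hA₂ c hc)
    rw [← e, hkl a (Subgroup.mem_sup_right ha)]
    exact ha

end Cfsg.Lib.Fusion.NExt
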